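import Cfsg.Agent.E8A.C63.Abc_m3
import Cfsg.Agent.Prune
set_option linter.all false
prune_inst 0x7f00000000000000000000000000000000000000000000000000000000000000000000000000000000000000000000000000000000000000000000000000000000000000000000000000000000000000003fffffffffffffffffffffffffffbeffbdffffffff
open scoped Cfsg.Agent.FastGrp

/-- decoders of the packed data (elaboration time only) -/
private noncomputable def pk61d (b S i : Nat) : Nat := Nat.mod (Nat.shiftRight S (Nat.mul b i)) (Nat.shiftLeft (nat_lit 1) b)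
private noncomputable def pk61c {α : Type} (t : Nat) (a : α) (f : Nat → α) : α := Nat.rec a (fun k _ => f k) t
private noncomputable def pk61f {α : Type} (t : Nat) (f : Nat → α) : α := Nat.rec (f Nat.zero) (fun k _ => f (Nat.succ k)) t
private noncomputable def pk61l {α : Type} (f : Nat → α) (s e : Nat) (tl : List α) : List α :=
  pk61f e fun e => Nat.rec tl (fun k ih => List.cons (pk61f (Nat.sub e (Nat.succ k)) f) ih) (Nat.sub e s)
private noncomputable def pk61o {α : Type} (O : (n : Nat) → OfNat α n → α) (I : (n : Nat) → OfNat α n) (t : Nat) : α :=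
  pk61c t (O (nat_lit 0) (I (nat_lit 0))) fun k => O (Nat.succ k) (I (Nat.succ k))

/-!
# `A₆` in characteristic 5: `f(D₁₀) + f(3² : 4) ≤ f(D₈)` for modules without fixed vectors (helper8)
-/

set_option autoImplicit false
set_option maxRecDepth 100000

namespace Cfsg.Agent.E8A.C65

open Module
open Cfsg.Agent.R2.T1.Odd Cfsg.Agent.R2.T1.Art

def gs : List (List (ℕ × ℕ)) :=
  [[(0, 1), (1, 2), (2, 3), (3, 4)], [(3, 4), (4, 5)], [(0, 1), (1, 2), (2, 3), (4, 5)], [(0, 2), (4, 5)]]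

def gG : List (List (ℕ × ℕ)) :=
  [[(0, 1), (1, 2), (2, 3), (3, 4)], [(3, 4), (4, 5)]]

noncomputable def eG : List (List ℕ) :=
  let y0 : List (List ℕ) := (by
  refine (?fq9001 : (fun (On : (n : Nat) → OfNat Nat n → Nat) (In : (n : Nat) → OfNat Nat n) => (pk61l (fun i0 => ((fun g0 : Nat → Nat => pk61l (fun i1 => (pk61o On In (pk61d (nat_lit 1) 
    (nat_lit 0x5a51a4d97a6ed2cd38d0b49449a6348468690b314c26c35850d9764d3734c86dbb4acbb229b) i1))) (g0 i0) (g0 (Nat.succ i0)) List.nil) fun j => (pk61d (nat_lit 9) 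
    (nat_lit 0x12c9045212fe79ba1bad263af162a64da410a7a37990b450230f064280f0501400) j))) (nat_lit 0) (nat_lit 28) List.nil : List (List ℕ)))
    = ?xq9001 → (List (List ℕ))) ?hq9001; (case hq9001 => (set_option maxRecDepth 1000000 in conv => lhs; reduce)); intro _; exact ?xq9001 (@OfNat.ofNat Nat) instOfNatNat : List (List ℕ))
  let y1 : List (List ℕ) := (by
  refine (?fq9002 : (fun (On : (n : Nat) → OfNat Nat n → Nat) (In : (n : Nat) → OfNat Nat n) (tl : List (List ℕ)) => (pk61l (fun i0 => ((fun g0 : Nat → Nat => pk61l (fun i1 => (pk61o On In (pk61d (nat_lit 1) 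
    (nat_lit 0x51b44cd33448d22c6914b4cd2b48cdb16c4ad2b4296a22368d1a6691a25994c5293646914358d2340b42c8a6290a02686a146cf65a6d2e93479bcd6431789b6daed368b2d929b4ba3512873491c8a431b8d45a28db69b49a2cd65b218ac45a2cd4ca551285368d45224d6693416cb45929948a2502692c8c45218d4682d160a450260d8682813dbd9d3d2d1cdcbc8c5c4b6b5b4b3b2a6a5a4a3a2a19b9a91) i1))) (g0 i0) (g0 (Nat.succ i0)) List.nil) fun j => (pk61d (nat_lit 11) 
    (nat_lit 0x9e73a66fcd59973065bcad94726647c858f71c633c5d8a71261fc358570860bc0d806fe5f7be57b6f45e3bbd766ea5cfb95716e05bbb6d6c6d69a8b4867ecd996b24636c4984b005eebb972adc5a6b2960ab855ea994ea94516a093ca704ce9792aa4c4868e918a2843e85906a043f67c8f49e03ae738e29bc3666a8d099831e618be9742d6588ac95028e4f89a92c246468889081fe3d8768e41b6348648c01702c0540a0130240440800f01c0340600b0140240400700c01402003004004000) j))) (nat_lit 0) (nat_lit 139) tl : List (List ℕ)))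
    = ?xq9002 → (List (List ℕ))) ?hq9002; (case hq9002 => (set_option maxRecDepth 1000000 in conv => lhs; reduce)); intro _; exact ?xq9002 (@OfNat.ofNat Nat) instOfNatNat y0 : List (List ℕ))
  (by
  refine (?fq9003 : (fun (On : (n : Nat) → OfNat Nat n → Nat) (In : (n : Nat) → OfNat Nat n) (tl : List (List ℕ)) => (pk61l (fun i0 => ((fun g0 : Nat → Nat => pk61l (fun i1 => (pk61o On In (pk61d (nat_lit 1) 
    (nat_lit 0x1211b171512dad6d2d0cccac8c6c4b6b4b2a6a4a2a09a968c8a88866a685a585652504c4a46444236342c28261a161413b766bd3a3365c98f15bb5669d2a3426cb911a2c486d9ab466c98ad58ad4a84c952234484d9a2c54a13244480d16284860a136d74cf2c6db2ba689a59238a16da65859551349140d2ca2481851030b7ace2d5a4e518358b52506290620ee5d4c32a19086b1a2392) i1))) (g0 i0) (g0 (Nat.succ i0)) List.nil) fun j => (pk61d (nat_lit 11) 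
    (nat_lit 0x25ccb19532864cc919132063cc718d31862cc518931061cc318530860cc11813005fcbf17d2f85ecbd1792f05dcbb1752e85ccb91712e05bcb716d2d85acb51692d059cb32656c918eb1661ec2180afa5e6bb172ade5aeb4164ac2576ad156aa653ea6148a8a5069f13aa6e4ce9812ca524969111ea3645e8a110a1a426831029fe3ee7c0f49e23b6750e69c637e6e0d89aa348678cc192318618c017a2e85b8b41622b8558a814a2884f89c1322584989011a228438841021f83d8780ea1c83786c0d2198318608bc16e2c8568a81462784c89411e228428800f61d83886c0ce1882e8580a613c258470860fc1d8370660bc1582704607c0e01902c04c0800d0140200300400400400000) j))) (nat_lit 0) (nat_lit 193) tl : List (List ℕ)))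
    = ?xq9003 → (List (List ℕ))) ?hq9003; (case hq9003 => (set_option maxRecDepth 1000000 in conv => lhs; reduce)); intro _; exact ?xq9003 (@OfNat.ofNat Nat) instOfNatNat y1 : List (List ℕ))

def rp : List (List (ℕ × ℕ)) :=
  [[], [(0, 2), (1, 3)], [(0, 1), (1, 2), (2, 3), (4, 5)], [(0, 1), (1, 2)], [(0, 1), (1, 2), (3, 4), (4, 5)]]

def g10 : List (List (ℕ × ℕ)) :=
  [[(0, 1), (1, 3), (2, 4), (3, 4)], [(0, 2), (1, 3)]]

def g8 : List (List (ℕ × ℕ)) :=
  [[(0, 1), (1, 2), (2, 3), (4, 5)], [(0, 2), (4, 5)]]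

def e8 : List (List ℕ) :=
  [[], [0], [1], [0, 0], [1, 0], [0, 1], [0, 0, 0], [1, 0, 0]]

def d8 : List (ℕ × List (ℕ × ℕ)) :=
  [(0, []), (2, []), (1, [(1, 5), (3, 4)]), (1, []), (1, [(1, 3), (2, 3)]), (1, [(1, 2), (2, 3)]), (2, [(0, 1), (2,
   3)]), (1, [(0, 4), (2, 5)])]

def g36 : List (List (ℕ × ℕ)) :=
  [[(0, 1), (1, 2)], [(0, 3), (1, 4), (2, 5), (3, 4)]]

noncomputable def e36 : List (List ℕ) :=
  (by
  refine (?fq9004 : ((pk61l (fun i1 => ((fun g1 : Nat → Nat => pk61l (fun i2 => (pk61d (nat_lit 1) 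
    (nat_lit 0xd6b757eeaf593969276dd4baa17d634792) i2)) (g1 i1) (g1 (Nat.succ i1)) List.nil) fun j => (pk61d (nat_lit 8) 
    (nat_lit 0x88827c76706b66615c57524d48433f3b37332f2b27231f1c191613100d0a08060402010000) j))) (nat_lit 0) (nat_lit 36) List.nil) : List (List ℕ))
    = ?xq9004 → (List (List ℕ))) ?hq9004; (case hq9004 => (set_option maxRecDepth 1000000 in conv => lhs; reduce)); intro _; exact ?xq9004 : List (List ℕ))

noncomputable def d36 : List (ℕ × List (ℕ × ℕ)) :=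
  (by
  refine (?fq9005 : ((pk61l (fun i1 => (_root_.Prod.mk (pk61d (nat_lit 3) 
    (nat_lit 0x92469a29149225149128a452698) i1) ((fun g1 : Nat → Nat => pk61l (fun i2 => (_root_.Prod.mk (pk61d (nat_lit 3) 
    (nat_lit 0x2222068888821a21a2194088d045985065a223408850448463208688650648810) i2) (pk61d (nat_lit 3) 
    (nat_lit 0x2d8e9b2bb6386cae5925ae2b6cb6cb5daecb6db29b1c922b6d861b2d963ae9a63) i2))) (g1 i1) (g1 (Nat.succ i1)) List.nil) fun j => (pk61d (nat_lit 7) 
    (nat_lit 0x56a54284c911a13e78e9c3464c172c54991203c70d182c4880c14203040400000) j)))) (nat_lit 0) (nat_lit 36) List.nil) : List (ℕ × List (ℕ × ℕ)))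
    = ?xq9005 → (List (ℕ × List (ℕ × ℕ)))) ?hq9005; (case hq9005 => (set_option maxRecDepth 1000000 in conv => lhs; reduce)); intro _; exact ?xq9005 : List (ℕ × List (ℕ × ℕ)))

noncomputable def R1 : List (List (ℕ × ℕ)) :=
  (by
  refine (?fq9006 : (fun (On : (n : Nat) → OfNat Nat n → Nat) (In : (n : Nat) → OfNat Nat n) => ((pk61l (fun i1 => ((fun g1 : Nat → Nat => pk61l (fun i2 => (_root_.Prod.mk (pk61o On In (pk61d (nat_lit 3) 
    (nat_lit 0x6888d18d18d18d142061021165946145985145165985a89a6a269a6a28e3) i2)) (pk61o On In (pk61d (nat_lit 3) 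
    (nat_lit 0xad1b1bb6ab62b2276caeaa6596db6caebadba9aaa2aa5b6db2c92b8ebb6c) i2)))) (g1 i1) (g1 (Nat.succ i1)) List.nil) fun j => (pk61d (nat_lit 7) 
    (nat_lit 0x50992224078e9c3668c982e58a9426488901e3868c16284880e18284060808000) j))) (nat_lit 0) (nat_lit 36) List.nil) : List (List (ℕ × ℕ))))
    = ?xq9006 → (List (List (ℕ × ℕ)))) ?hq9006; (case hq9006 => (set_option maxRecDepth 1000000 in conv => lhs; reduce)); intro _; exact ?xq9006 (@OfNat.ofNat Nat) instOfNatNat : List (List (ℕ × ℕ)))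

noncomputable def tab1 : List (List ℕ) :=
  (by
  refine (?fq9007 : (fun (On : (n : Nat) → OfNat Nat n → Nat) (In : (n : Nat) → OfNat Nat n) => ((pk61l (fun i1 => (pk61l (fun i2 => (pk61o On In (pk61d (nat_lit 6) 
    (nat_lit 0x15a11020b5161e265805c4dd5400a028e30d78f25f6c38e11915d254100775881941358b68e88814409431c28d24f79b7c35d24468e17943d085b69d8dc8134a26165515d97cc38d1440ca2c91c818008140e7563156536205220881412da10700a35c7db0d25d124f7a3846) i2))) (Nat.mul (nat_lit 36) i1) (Nat.mul (nat_lit 36) (Nat.succ i1)) List.nil)) (nat_lit 0) (nat_lit 4) List.nil) : List (List ℕ)))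
    = ?xq9007 → (List (List ℕ))) ?hq9007; (case hq9007 => (set_option maxRecDepth 1000000 in conv => lhs; reduce)); intro _; exact ?xq9007 (@OfNat.ofNat Nat) instOfNatNat : List (List ℕ))

noncomputable def wit1 : List (List (List ℕ)) :=
  (by
  refine (?fq9008 : ((pk61l (fun i1 => (pk61l (fun i2 => ((fun g2 : Nat → Nat => pk61l (fun i3 => (pk61d (nat_lit 1) 
    (nat_lit 0x3a6b363c1a494924e40c404009259022825124c924074a00240052092) i3)) (g2 i2) (g2 (Nat.succ i2)) List.nil) fun j => (pk61d (nat_lit 8) 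
    (nat_lit 0xe4e1e0dddad7d5d4d2d2d1cfcecdcac9c8c7c6c3c0bdbab7b4b2b1afaeaeaca9a8a6a4a3a2a19e9d9c9b999794928f8c8b8885827f7c79767473706f6c6b6968656362605e5d5c5c5a59565656565451514e4b48484848484545423f3c3c3c3c3c3c3c3c3c3c3c3c3c3c3c3c3c3b3837363533302e2c2b2926252421201f1c1b1a19181512100d0c0a0807060403030100) j))) (Nat.mul (nat_lit 36) i1) (Nat.mul (nat_lit 36) (Nat.succ i1)) List.nil)) (nat_lit 0) (nat_lit 4) List.nil) : List (List (List ℕ)))
    = ?xq9008 → (List (List (List ℕ)))) ?hq9008; (case hq9008 => (set_option maxRecDepth 1000000 in conv => lhs; reduce)); intro _; exact ?xq9008 : List (List (List ℕ)))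

def R2 : List (List (ℕ × ℕ)) :=
  [[], [(2, 3), (4, 5)], [(2, 4), (3, 4)], [(2, 5), (3, 5)], [(1, 2), (2, 3)], [(1, 2), (2, 4)], [(1, 2), (2, 5)],
   [(1, 3), (2, 4)], [(1, 3), (2, 5)], [(1, 4), (2, 5)]]

def tab2 : List (List ℕ) :=
  [[9, 8, 0, 7, 6, 1, 5, 2, 4, 3], [0, 2, 3, 1, 5, 6, 4, 9, 7, 8], [9, 0, 7, 8, 1, 5, 6, 3, 2, 4], [0, 9, 7, 8, 4,
   6, 5, 2, 3, 1]]

noncomputable def wit2 : List (List (List ℕ)) :=
  (by
  refine (?fq9009 : ((pk61l (fun i1 => (pk61l (fun i2 => ((fun g2 : Nat → Nat => pk61l (fun i3 => (pk61d (nat_lit 1) 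
    (nat_lit 0x9d99927d93cc939d234f7bdef7ad7339) i3)) (g2 i2) (g2 (Nat.succ i2)) List.nil) fun j => (pk61d (nat_lit 8) 
    (nat_lit 0x807e797874706c6764605b57534f4a474641403f3b38332e29241f1f1f1f1a181716120c0908070200) j))) (Nat.mul (nat_lit 10) i1) (Nat.mul (nat_lit 10) (Nat.succ i1)) List.nil)) (nat_lit 0) (nat_lit 4) List.nil) : List (List (List ℕ)))
    = ?xq9009 → (List (List (List ℕ)))) ?hq9009; (case hq9009 => (set_option maxRecDepth 1000000 in conv => lhs; reduce)); intro _; exact ?xq9009 : List (List (List ℕ)))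

def LA : List (ℕ × ℕ) :=
  [(1, 14), (1, 22), (1, 25), (1, 28)]

def LB : List (ℕ × ℕ) :=
  [(1, 5), (1, 6)]

noncomputable def XA : List (ℕ × List ℕ) :=
  (by
  refine (?fq9010 : (fun (On : (n : Nat) → OfNat Nat n → Nat) (In : (n : Nat) → OfNat Nat n) => ((pk61l (fun i1 => (_root_.Prod.mk (pk61o On In (pk61d (nat_lit 3) 
    (nat_lit 0x8925128924944a2) i1)) ((fun g1 : Nat → Nat => pk61l (fun i2 => (pk61o On In (pk61d (nat_lit 2) 
    (nat_lit 0x7062330026c021870d2d0b008230c6826830a0ce282880) i2))) (g1 i1) (g1 (Nat.succ i1)) List.nil) fun j => (pk61d (nat_lit 7) 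
    (nat_lit 0x5caf4e7c98d05e3868b94a33a5c88d1214000) j)))) (nat_lit 0) (nat_lit 20) List.nil) : List (ℕ × List ℕ)))
    = ?xq9010 → (List (ℕ × List ℕ))) ?hq9010; (case hq9010 => (set_option maxRecDepth 1000000 in conv => lhs; reduce)); intro _; exact ?xq9010 (@OfNat.ofNat Nat) instOfNatNat : List (ℕ × List ℕ))

noncomputable def XB : List (ℕ × List ℕ) :=
  (by
  refine (?fq9011 : (fun (On : (n : Nat) → OfNat Nat n → Nat) (In : (n : Nat) → OfNat Nat n) => ((pk61l (fun i1 => (_root_.Prod.mk (pk61o On In (nat_lit 4)) ((fun g1 : Nat → Nat => pk61l (fun i2 => (pk61o On In (pk61d (nat_lit 2) 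
    (nat_lit 0x658282003158d19a70698880200a61e086d2d0b0c8b1a09a0c280a4282955) i2))) (g1 i1) (g1 (Nat.succ i1)) List.nil) fun j => (pk61d (nat_lit 7) 
    (nat_lit 0xf7df8ebcb82d55a1323c27ae5a30549d21e30486890604000) j)))) (nat_lit 0) (nat_lit 27) List.nil) : List (ℕ × List ℕ)))
    = ?xq9011 → (List (ℕ × List ℕ))) ?hq9011; (case hq9011 => (set_option maxRecDepth 1000000 in conv => lhs; reduce)); intro _; exact ?xq9011 (@OfNat.ofNat Nat) instOfNatNat : List (ℕ × List ℕ))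

/-- the sum of all cosets -/
def O1 : List (ℕ × ℕ) := (List.range 36).map fun i => (1, i)

theorem cG : chkG 6 gG eG = true := _root_.Cfsg.Agent.R2.T1.Odd.Fq.chkG_of 9503 (by decide +kernel)
theorem c8 : chkG 6 g8 e8 = true := _root_.Cfsg.Agent.R2.T1.Odd.Fq.chkG_of 29 (by decide +kernel)
theorem c8' : chkC 6 g8 e8 [] rp d8 = true := _root_.Cfsg.Agent.R2.T1.Odd.Fq.chkC_of (by decide +kernel)
theorem c36 : chkG 6 g36 e36 = true := _root_.Cfsg.Agent.R2.T1.Odd.Fq.chkG_of 151 (by decide +kernel)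
theorem c36' : chkC 6 g36 e36 [] rp d36 = true := _root_.Cfsg.Agent.R2.T1.Odd.Fq.chkC_of (by decide +kernel)
theorem cF1 : chkF 6 gs g10 R1 tab1 wit1 = true := by decide +kernel
theorem cF2 : chkF 6 gs g36 R2 tab2 wit2 = true := by decide +kernel

variable {F : Type*} [Field F] {W : Type*} [AddCommGroup W] [Module F W]
  {ρ : Representation F ↥(alternatingGroup (Fin 6)) W}

theorem Tg_top : Tg 6 gG = ⊤ := by
  have := Fintype.ofFinite ↥(Tg 6 gG)
  have h1 := card_Tg (n := 6) le_rfl cG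
  have h2 : 2 * Nat.card ↥(alternatingGroup (Fin 6)) = 720 := by
    rw [two_mul_nat_card_alternatingGroup, Nat.card_perm, Nat.card_eq_fintype_card, Fintype.card_fin]
    rfl
  refine Subgroup.eq_top_of_card_eq _ ?_
  rw [Nat.card_eq_fintype_card, h1, show eG.length = 360 from by decide +kernel]
  omega

theorem O1_zero [CharP F 5] (h0 : ∀ v : W, (∀ a, ρ a v = v) → v = 0) {v : W} (hv : v ∈ inv ρ (Tg 6 g10)) :
    EL ρ R1 O1 v = 0 := by
  have h1 : EL ρ R1 O1 v ∈ inv ρ (Tg 6 gG) := by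
    refine mem_inv_Tg fun g hg => ?_
    have h2 : ∀ j, okX gs.length [(1, [j])] = true → eqv 5 36 (pr tab1 [(1, [j])] O1) O1 = true →
        ρ (P 6 (wd gs [j])) (EL ρ R1 O1 v) = EL ρ R1 O1 v := fun j h3 h4 => by
      rw [← XL_one, XL_EL le_rfl cF1 hv h3 (by decide +kernel), EL_eq 5 R1 h4]
    rcases List.mem_pair.1 hg with rfl | rfl
    · exact h2 0 (by decide +kernel) (by decide +kernel)
    · exact h2 1 (by decide +kernel) (by decide +kernel)
  rw [Tg_top] at h1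
  exact h0 _ fun a => h1 a (Subgroup.mem_top a)

theorem EL_base (R : List (List (ℕ × ℕ))) (h : R.getD 0 [] = []) (v : W) : EL ρ R [(1, 0)] v = v := by
  rw [EL_cons, EL_nil, add_zero, h, P_nil, map_one, Nat.cast_one, one_smul]
  rfl

theorem theta_mem [CharP F 5] {v w : W} (hv : v ∈ inv ρ (Tg 6 g10)) (hw : w ∈ inv ρ (Tg 6 g36)) :
    EL ρ R1 LA v + EL ρ R2 LB w ∈ inv ρ (Tg 6 g8) := by
  refine mem_inv_Tg fun g hg => ?_
  have h2 : ∀ j, okX gs.length [(1, [j])] = true → eqv 5 36 (pr tab1 [(1, [j])] LA) LA = true →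
      eqv 5 10 (pr tab2 [(1, [j])] LB) LB = true →
      ρ (P 6 (wd gs [j])) (EL ρ R1 LA v + EL ρ R2 LB w) = EL ρ R1 LA v + EL ρ R2 LB w := fun j h3 h4 h5 => by
    rw [← XL_one, map_add, XL_EL le_rfl cF1 hv h3 (by decide +kernel), EL_eq 5 R1 h4,
      XL_EL le_rfl cF2 hw h3 (by decide +kernel), EL_eq 5 R2 h5]
  rcases List.mem_pair.1 hg with rfl | rfl
  · exact h2 2 (by decide +kernel) (by decide +kernel) (by decide +kernel)
  · exact h2 3 (by decide +kernel) (by decide +kernel) (by decide +kernel)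

theorem theta_inj [CharP F 5] (h0 : ∀ v : W, (∀ a, ρ a v = v) → v = 0) {v w : W} (hv : v ∈ inv ρ (Tg 6 g10))
    (hw : w ∈ inv ρ (Tg 6 g36)) (h : EL ρ R1 LA v + EL ρ R2 LB w = 0) : v = 0 ∧ w = 0 := by
  have h1 := O1_zero h0 hv
  have h2 : ∀ X, okX gs.length X = true → EL ρ R1 (pr tab1 X LA) v + EL ρ R2 (pr tab2 X LB) w = 0 := fun X hX => by
    rw [← XL_EL le_rfl cF1 hv hX (by decide +kernel), ← XL_EL le_rfl cF2 hw hX (by decide +kernel), ← map_add, h, map_zero]
  constructor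
  · have h3 := h2 XA (by decide +kernel)
    have h4 : EL ρ R1 (pr tab1 XA LA ++ O1) v = EL ρ R1 [(1, 0)] v := EL_eq 5 R1 (N := 36) (by decide +kernel) v
    rw [EL_eq 5 R2 (N := 10) (L' := []) (by decide +kernel), EL_nil, add_zero] at h3
    rw [EL_append, h3, h1, add_zero, EL_base R1 rfl] at h4
    exact h4.symm
  · have h3 := h2 XB (by decide +kernel)
    rwa [EL_eq 5 R1 (N := 36) (L' := O1 ++ O1) (by decide +kernel), EL_append, h1, add_zero, zero_add,
      EL_eq 5 R2 (N := 10) (L' := [(1, 0)]) (by decide +kernel), EL_base R2 rfl] at h3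

/-- **(a)** -/
theorem ineq_a [CharP F 5] [FiniteDimensional F W] (h0 : ∀ v : W, (∀ a, ρ a v = v) → v = 0) :
    finrank F ↥(inv ρ (Tg 6 g10)) + finrank F ↥(inv ρ (Tg 6 g36)) ≤ finrank F ↥(inv ρ (Tg 6 g8)) := by
  let θ : (↥(inv ρ (Tg 6 g10)) × ↥(inv ρ (Tg 6 g36))) →ₗ[F] ↥(inv ρ (Tg 6 g8)) :=
    LinearMap.codRestrict _ (LinearMap.coprod (EL ρ R1 LA ∘ₗ Submodule.subtype _) (EL ρ R2 LB ∘ₗ Submodule.subtype _))
      fun z => theta_mem z.1.2 z.2.2
  have h1 : Function.Injective θ := by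
    rw [injective_iff_map_eq_zero]
    intro z hz
    obtain ⟨h2, h3⟩ := theta_inj h0 z.1.2 z.2.2 (congrArg Subtype.val hz)
    exact Prod.ext (Subtype.ext h2) (Subtype.ext h3)
  rw [← finrank_prod]
  exact LinearMap.finrank_le_finrank_of_injective h1

theorem dim8 [Finite F] [FiniteDimensional F W] (h : ((8 : ℕ) : F) ≠ 0) : (8 : ℚ) * finrank F ↥(inv ρ (Tg 6 g8)) =
    om ρ (P 6 []) + 5 * om ρ (P 6 (rp.getD 1 [])) + 2 * om ρ (P 6 (rp.getD 2 [])) := by
  have h1 := dimC (n := 6) le_rfl c8 c8' (N := 8) (K := 5) rfl rfl h (c := [1, 5, 2, 0, 0]) (by decide +kernel) ρ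
  simp only [Finset.sum_range_succ, Finset.sum_range_zero] at h1
  have e0 : rp.getD 0 [] = [] := rfl
  rw [e0] at h1
  norm_num at h1 ⊢
  linarith

theorem dim36 [Finite F] [FiniteDimensional F W] (h : ((36 : ℕ) : F) ≠ 0) : (36 : ℚ) * finrank F ↥(inv ρ (Tg 6 g36)) =
    om ρ (P 6 []) + 9 * om ρ (P 6 (rp.getD 1 [])) + 18 * om ρ (P 6 (rp.getD 2 [])) + 4 * om ρ (P 6 (rp.getD 3 [])) +
      4 * om ρ (P 6 (rp.getD 4 [])) := by
  have h1 := dimC (n := 6) le_rfl c36 c36' (N := 36) (K := 5) rfl rfl h (c := [1, 9, 18, 4, 4]) (by decide +kernel) ρ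
  simp only [Finset.sum_range_succ, Finset.sum_range_zero] at h1
  have e0 : rp.getD 0 [] = [] := rfl
  rw [e0] at h1
  norm_num at h1 ⊢
  linarith

end Cfsg.Agent.E8A.C65
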